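import Cfsg.Prelude.Def_ChevAutomorphisms
import Cfsg.Prelude.Def_ChevG2
import Cfsg.Prelude.Def_ChevB2
import Cfsg.Prelude.Def_ChevD4
import Cfsg.Prelude.Def_ChevF4
import Cfsg.Prelude.Def_ChevE6
import Cfsg.Prelude.Def_ChevE7
import Cfsg.Prelude.Def_ChevE8

/-!
# The symmetries of the Dynkin diagrams of the seven tabulated types

`imgs_G2` etc. : for a symmetry `π` of the diagram the list of values `imgs π` lies in an explicit list (found by
backtracking, `symm_mem`); `imgs_getD` recovers `π` from the list.
-/

set_option autoImplicit false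

namespace Cfsg.Agent.H79.DiagSymm

open Cfsg.Lie

variable {D : ChevalleyDatum}

/-- Entry `(i, j)` of a packed bond table (4 bits per entry, 8 entries per row). -/
def bt (T i j : ℕ) : ℕ := Nat.land (Nat.shiftRight T (Nat.mul 4 (Nat.add (Nat.mul 8 i) j))) 15

/-- The packed table `T` gives the bonds of `D`. -/
def IsTab (D : ChevalleyDatum) (T : ℕ) : Prop := ∀ i < D.rank, ∀ j < D.rank, D.bonds i j = (bt T i j : ℤ)

instance decIsTab (D : ChevalleyDatum) (T : ℕ) : Decidable (IsTab D T) := by unfold IsTab; infer_instance

/-- One step of the backtracking search. -/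
def cands (n T : ℕ) (l : List ℕ) : List (List ℕ) :=
  ((List.range n).filter fun x => (!l.contains x) &&
    (List.range l.length).all fun j => Nat.beq (bt T (l.getD j 0) x) (bt T j l.length)).map fun x => l ++ [x]

/-- The partial symmetries defined on the first `k` nodes. -/
def search (n T : ℕ) : ℕ → List (List ℕ)
  | 0 => [[]]
  | k + 1 => (search n T k).flatMap (cands n T)

/-- The values of a permutation of the nodes, as a function on natural numbers. -/
def val (π : Equiv.Perm (Fin D.rank)) (k : ℕ) : ℕ := if h : k < D.rank then (π ⟨k, h⟩).val else 0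

theorem val_fin (π : Equiv.Perm (Fin D.rank)) (i : Fin D.rank) : val π i = (π i).val := by
  unfold val
  rw [dif_pos i.isLt]

/-- The list of the values. -/
def imgs (π : Equiv.Perm (Fin D.rank)) : List ℕ := (List.range D.rank).map (val π)

theorem imgs_getD (π : Equiv.Perm (Fin D.rank)) (i : Fin D.rank) : (imgs π).getD i 0 = (π i).val := by
  unfold imgs
  rw [List.getD_eq_getElem?_getD, List.getElem?_map, List.getElem?_range i.isLt]
  simp [val_fin]

theorem pre_mem {T : ℕ} (hT : IsTab D T) {π : Equiv.Perm (Fin D.rank)} (hπ : D.IsDiagramSymmetry π) :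
    ∀ k ≤ D.rank, (List.range k).map (val π) ∈ search D.rank T k := by
  intro k
  induction k with
  | zero => intro _; simp [search]
  | succ k ih =>
    intro hk
    have hk' : k < D.rank := hk
    have h1 := ih (Nat.le_of_lt hk')
    unfold search
    rw [List.mem_flatMap]
    refine ⟨_, h1, ?_⟩
    unfold cands
    rw [List.mem_map]
    refine ⟨val π k, ?_, ?_⟩
    · rw [List.mem_filter]
      refine ⟨?_, ?_⟩
      · rw [List.mem_range]
        have := val_fin π ⟨k, hk'⟩
        simp only at this
        rw [this]
        exact (π ⟨k, hk'⟩).isLt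
      · rw [Bool.and_eq_true]
        refine ⟨?_, ?_⟩
        · rw [Bool.not_eq_true', ← Bool.not_eq_true]
          intro h
          rw [List.contains_iff_mem, List.mem_map] at h
          obtain ⟨j, hj, hjk⟩ := h
          rw [List.mem_range] at hj
          have h2 := val_fin π ⟨k, hk'⟩
          have h3 := val_fin π ⟨j, by omega⟩
          simp only at h2 h3
          rw [h2, h3] at hjk
          have := congrArg Fin.val (π.injective (Fin.ext hjk))
          simp only at this
          omega
        · rw [List.all_eq_true]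
          intro j hj
          rw [List.length_map, List.length_range, List.mem_range] at hj
          rw [Nat.beq_eq, List.length_map, List.length_range, List.getD_eq_getElem?_getD, List.getElem?_map,
            List.getElem?_range hj]
          have h2 := val_fin π ⟨k, hk'⟩
          have h3 := val_fin π ⟨j, by omega⟩
          simp only at h2 h3
          simp only [Option.map_some, Option.getD_some, h2, h3]
          have h4 := hπ ⟨j, by omega⟩ ⟨k, hk'⟩ (fun h => by
            have := congrArg Fin.val h
            simp only at this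
            omega)
          rw [hT _ (π ⟨j, by omega⟩).isLt _ (π ⟨k, hk'⟩).isLt, hT _ (by simp only; omega) _ hk'] at h4
          exact_mod_cast h4
    · rw [List.range_succ, List.map_append]
      rfl

theorem symm_mem {T : ℕ} (hT : IsTab D T) {π : Equiv.Perm (Fin D.rank)} (hπ : D.IsDiagramSymmetry π) :
    imgs π ∈ search D.rank T D.rank :=
  pre_mem hT hπ _ le_rfl

/-- Two permutations of the nodes with the same list of values are equal. -/
theorem eq_of_imgs {π ρ : Equiv.Perm (Fin D.rank)} (h : imgs π = imgs ρ) : π = ρ := by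
  ext i
  rw [← imgs_getD, ← imgs_getD, h]

theorem imgs_one : imgs (1 : Equiv.Perm (Fin D.rank)) = List.range D.rank := by
  unfold imgs
  conv_rhs => rw [← List.map_id (List.range D.rank)]
  apply List.map_congr_left
  intro k hk
  rw [List.mem_range] at hk
  have := val_fin (1 : Equiv.Perm (Fin D.rank)) ⟨k, hk⟩
  simp only at this
  rw [this]
  rfl

/-- packed bond table of type G2 -/
def tabG2 : ℕ := 0x4300000034

theorem isTab_G2 : IsTab chevG2 tabG2 := by decide +kernel

theorem search_G2 : search chevG2.rank tabG2 chevG2.rank = [[0, 1], [1, 0]] := by decide +kernel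

/-- The symmetries of the diagram of type G2. -/
theorem imgs_G2 {π : Equiv.Perm (Fin chevG2.rank)} (hπ : chevG2.IsDiagramSymmetry π) :
    imgs π ∈ ([[0, 1], [1, 0]] : List (List ℕ)) := by
  have h := symm_mem isTab_G2 hπ
  rwa [search_G2] at h

/-- packed bond table of type B2 -/
def tabB2 : ℕ := 0x4200000024

theorem isTab_B2 : IsTab chevB2 tabB2 := by decide +kernel

theorem search_B2 : search chevB2.rank tabB2 chevB2.rank = [[0, 1], [1, 0]] := by decide +kernel

/-- The symmetries of the diagram of type B2. -/
theorem imgs_B2 {π : Equiv.Perm (Fin chevB2.rank)} (hπ : chevB2.IsDiagramSymmetry π) :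
    imgs π ∈ ([[0, 1], [1, 0]] : List (List ℕ)) := by
  have h := symm_mem isTab_B2 hπ
  rwa [search_B2] at h

/-- packed bond table of type D4 -/
def tabD4 : ℕ := 0x4010000004100000114100000014

theorem isTab_D4 : IsTab chevD4 tabD4 := by decide +kernel

theorem search_D4 : search chevD4.rank tabD4 chevD4.rank = [[0, 1, 2, 3], [0, 1, 3, 2], [2, 1, 0, 3], [2, 1, 3, 0], [3, 1, 0, 2], [3, 1, 2, 0]] := by decide +kernel

/-- The symmetries of the diagram of type D4. -/
theorem imgs_D4 {π : Equiv.Perm (Fin chevD4.rank)} (hπ : chevD4.IsDiagramSymmetry π) :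
    imgs π ∈ ([[0, 1, 2, 3], [0, 1, 3, 2], [2, 1, 0, 3], [2, 1, 3, 0], [3, 1, 0, 2], [3, 1, 2, 0]] : List (List ℕ)) := by
  have h := symm_mem isTab_D4 hπ
  rwa [search_D4] at h

/-- packed bond table of type F4 -/
def tabF4 : ℕ := 0x4100000014200000024100000014

theorem isTab_F4 : IsTab chevF4 tabF4 := by decide +kernel

theorem search_F4 : search chevF4.rank tabF4 chevF4.rank = [[0, 1, 2, 3], [3, 2, 1, 0]] := by decide +kernel

/-- The symmetries of the diagram of type F4. -/
theorem imgs_F4 {π : Equiv.Perm (Fin chevF4.rank)} (hπ : chevF4.IsDiagramSymmetry π) :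
    imgs π ∈ ([[0, 1, 2, 3], [3, 2, 1, 0]] : List (List ℕ)) := by
  have h := symm_mem isTab_F4 hπ
  rwa [search_F4] at h

/-- packed bond table of type E6 -/
def tabE6 : ℕ := 0x4100000014100000014110000014010000104000000104

theorem isTab_E6 : IsTab chevE6 tabE6 := by decide +kernel

theorem search_E6 : search chevE6.rank tabE6 chevE6.rank = [[0, 1, 2, 3, 4, 5], [5, 1, 4, 3, 2, 0]] := by decide +kernel

/-- The symmetries of the diagram of type E6. -/
theorem imgs_E6 {π : Equiv.Perm (Fin chevE6.rank)} (hπ : chevE6.IsDiagramSymmetry π) :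
    imgs π ∈ ([[0, 1, 2, 3, 4, 5], [5, 1, 4, 3, 2, 0]] : List (List ℕ)) := by
  have h := symm_mem isTab_E6 hπ
  rwa [search_E6] at h

/-- packed bond table of type E7 -/
def tabE7 : ℕ := 0x4100000014100000014100000014110000014010000104000000104

theorem isTab_E7 : IsTab chevE7 tabE7 := by decide +kernel

theorem search_E7 : search chevE7.rank tabE7 chevE7.rank = [[0, 1, 2, 3, 4, 5, 6]] := by decide +kernel

/-- The symmetries of the diagram of type E7. -/
theorem imgs_E7 {π : Equiv.Perm (Fin chevE7.rank)} (hπ : chevE7.IsDiagramSymmetry π) :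
    imgs π ∈ ([[0, 1, 2, 3, 4, 5, 6]] : List (List ℕ)) := by
  have h := symm_mem isTab_E7 hπ
  rwa [search_E7] at h

/-- packed bond table of type E8 -/
def tabE8 : ℕ := 0x4100000014100000014100000014100000014110000014010000104000000104

theorem isTab_E8 : IsTab chevE8 tabE8 := by decide +kernel

theorem search_E8 : search chevE8.rank tabE8 chevE8.rank = [[0, 1, 2, 3, 4, 5, 6, 7]] := by decide +kernel

/-- The symmetries of the diagram of type E8. -/
theorem imgs_E8 {π : Equiv.Perm (Fin chevE8.rank)} (hπ : chevE8.IsDiagramSymmetry π) :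
    imgs π ∈ ([[0, 1, 2, 3, 4, 5, 6, 7]] : List (List ℕ)) := by
  have h := symm_mem isTab_E8 hπ
  rwa [search_E8] at h

/-- The identity is the only symmetry in the types `E₇`, `E₈`. -/
theorem eq_one_E7 {π : Equiv.Perm (Fin chevE7.rank)} (hπ : chevE7.IsDiagramSymmetry π) : π = 1 := by
  apply eq_of_imgs
  have h := imgs_E7 hπ
  rw [List.mem_singleton] at h
  rw [h, imgs_one]
  rfl

theorem eq_one_E8 {π : Equiv.Perm (Fin chevE8.rank)} (hπ : chevE8.IsDiagramSymmetry π) : π = 1 := by
  apply eq_of_imgs
  have h := imgs_E8 hπ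
  rw [List.mem_singleton] at h
  rw [h, imgs_one]
  rfl

/-- In every type but `D₄` two non-trivial symmetries are equal. -/
theorem eq_of_ne_one (hD : D ∈ [chevG2, chevB2, chevF4, chevE6, chevE7, chevE8])
    {π ρ : Equiv.Perm (Fin D.rank)} (hπ : D.IsDiagramSymmetry π) (hρ : D.IsDiagramSymmetry ρ)
    (h1 : π ≠ 1) (h2 : ρ ≠ 1) : π = ρ := by
  have h5 : imgs π ≠ List.range D.rank := fun h => h1 (eq_of_imgs (h.trans imgs_one.symm))
  have h6 : imgs ρ ≠ List.range D.rank := fun h => h2 (eq_of_imgs (h.trans imgs_one.symm))
  apply eq_of_imgs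
  simp only [List.mem_cons, List.not_mem_nil, or_false] at hD
  rcases hD with rfl | rfl | rfl | rfl | rfl | rfl
  · have h3 := imgs_G2 hπ
    have h4 := imgs_G2 hρ
    simp only [List.mem_cons, List.not_mem_nil, or_false] at h3 h4
    rcases h3 with h3 | h3
    · exact absurd h3 h5
    · rcases h4 with h4 | h4
      · exact absurd h4 h6
      · rw [h3, h4]
  · have h3 := imgs_B2 hπ
    have h4 := imgs_B2 hρ
    simp only [List.mem_cons, List.not_mem_nil, or_false] at h3 h4
    rcases h3 with h3 | h3
    · exact absurd h3 h5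
    · rcases h4 with h4 | h4
      · exact absurd h4 h6
      · rw [h3, h4]
  · have h3 := imgs_F4 hπ
    have h4 := imgs_F4 hρ
    simp only [List.mem_cons, List.not_mem_nil, or_false] at h3 h4
    rcases h3 with h3 | h3
    · exact absurd h3 h5
    · rcases h4 with h4 | h4
      · exact absurd h4 h6
      · rw [h3, h4]
  · have h3 := imgs_E6 hπ
    have h4 := imgs_E6 hρ
    simp only [List.mem_cons, List.not_mem_nil, or_false] at h3 h4
    rcases h3 with h3 | h3
    · exact absurd h3 h5
    · rcases h4 with h4 | h4
      · exact absurd h4 h6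
      · rw [h3, h4]
  · have h3 := imgs_E7 hπ
    have h4 := imgs_E7 hρ
    simp only [List.mem_cons, List.not_mem_nil, or_false] at h3 h4
    rw [h3, h4]
  · have h3 := imgs_E8 hπ
    have h4 := imgs_E8 hρ
    simp only [List.mem_cons, List.not_mem_nil, or_false] at h3 h4
    rw [h3, h4]

end Cfsg.Agent.H79.DiagSymm
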